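import Groth.Agent.ASH1Lib.Op
import Mathlib.LinearAlgebra.Dimension.Constructions
import Mathlib.LinearAlgebra.Dimension.Free
import Mathlib.LinearAlgebra.FiniteDimensional.Defs

/-!
# `ker N / im (σ - 1)` for an Artin-Schreier point
-/

set_option autoImplicit false
universe u

open PowerSeries

namespace ASH1Lib

variable {k : Type u} [Field k] {p : ℕ} [Fact p.Prime] [CharP k p] (D : Dat k p) (a : ℤ)

theorem cast_ne {q l : ℕ} (hq : q < p) (hl : l < p) (h : q ≠ l) : (q : ZMod p) ≠ (l : ZMod p) := fun e => h (by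
  have := (ZMod.natCast_eq_natCast_iff' q l p).1 e
  rwa [Nat.mod_eq_of_lt hq, Nat.mod_eq_of_lt hl] at this)

/-- An element with given leading term killed by a power of `W`. -/
theorem Dat.exists_elt (i l : ℕ) (hl : l < p)
    (hlev : ∀ q : ℕ, ((a + i + q * D.n : ℤ) : k) = 0 ↔ (q : ZMod p) = l) :
    ∃ z : k⟦X⟧, coeff i z = 1 ∧ (∀ j < i, coeff j z = 0) ∧ ((D.W a) ^ (l + 1)) z = 0 := by
  classical
  have hp : p ≠ 0 := (Fact.out : p.Prime).ne_zero
  set d := p * D.n
  set b : ℤ := a - d with hb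
  set j0 := d + i - (p - 1 - l) * D.n with hj0
  have hle : (p - 1 - l) * D.n ≤ d := Nat.mul_le_mul_right _ (by omega)
  have hj : j0 + (p - 1 - l) * D.n = d + i := by omega
  obtain ⟨h1, h2⟩ := D.W_iter_lead b (X ^ j0) j0 (fun j hj => by rw [coeff_X_pow, if_neg hj.ne]) (p - 1 - l)
  rw [hj] at h1 h2
  rw [coeff_X_pow_self, mul_one] at h2
  have hprod : (∏ q ∈ Finset.range (p - 1 - l), ((b + j0 + q * D.n : ℤ) : k) * -(D.n : k)⁻¹) ≠ 0 := by
    refine Finset.prod_ne_zero_iff.2 fun q hq => mul_ne_zero ?_ (neg_ne_zero.2 (inv_ne_zero D.hnk))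
    rw [Finset.mem_range] at hq
    have hj' : (j0 : ℤ) + ((p - 1 - l : ℕ) : ℤ) * D.n = d + i := by exact_mod_cast hj
    have hcast : ((p - 1 - l : ℕ) : ℤ) = (p : ℤ) - 1 - l := by omega
    have : b + j0 + q * D.n = a + i + ((l + 1 + q : ℕ) : ℤ) * D.n - (p : ℤ) * D.n := by
      rw [hb]; push_cast
      linear_combination hj' - hcast * (D.n : ℤ)
    rw [this, Int.cast_sub, Int.cast_mul (p : ℤ), Int.cast_natCast p, CharP.cast_eq_zero k p, zero_mul, sub_zero,
      Ne, hlev]
    exact cast_ne (by omega) hl (by omega)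
  obtain ⟨z, hz⟩ : X ^ d ∣ ((D.W b) ^ (p - 1 - l)) (X ^ j0) := X_pow_dvd_iff.2 fun j hj' => h1 j (by omega)
  have hzi : ∀ j, coeff (d + j) (((D.W b) ^ (p - 1 - l)) (X ^ j0)) = coeff j z := fun j => by
    rw [hz, add_comm, coeff_X_pow_mul]
  have hc : coeff i z ≠ 0 := by rw [← hzi, h2]; exact hprod
  have hshift : ∀ (m : ℕ) (x : k⟦X⟧), ((D.W b) ^ m) (X ^ d * x) = X ^ d * ((D.W a) ^ m) x := by
    intro m x
    induction m with
    | zero => simp
    | succ m ih =>
      rw [pow_succ', Module.End.mul_apply, ih, D.W_X_pow_mul, show b + (d : ℤ) = a by rw [hb]; ring,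
        pow_succ', Module.End.mul_apply]
  refine ⟨(coeff i z)⁻¹ • z, ?_, fun j hj' => ?_, ?_⟩
  · rw [map_smul, smul_eq_mul, inv_mul_cancel₀ hc]
  · rw [map_smul, show coeff j z = 0 by rw [← hzi, h1 _ (by omega)], smul_zero]
  · rw [map_smul]
    suffices ((D.W a) ^ (l + 1)) z = 0 by rw [this, smul_zero]
    refine mul_left_cancel₀ (pow_ne_zero d X_ne_zero) ?_
    rw [mul_zero, ← hshift, ← hz, ← Module.End.mul_apply, ← pow_add, show l + 1 + (p - 1 - l) = p by omega,
      D.W_pow_p, LinearMap.zero_apply]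

/-- The kernel of the norm. -/
noncomputable def Dat.Z : Submodule k k⟦X⟧ := LinearMap.ker ((D.W a) ^ (p - 1))

/-- Index `i` carries a class. -/
def Dat.Good (i : ℕ) : Prop := ¬ (p : ℤ) ∣ a - D.n + i

theorem Dat.good_iff (i l : ℕ) (hl : l < p)
    (hlev : ∀ q : ℕ, ((a + i + q * D.n : ℤ) : k) = 0 ↔ (q : ZMod p) = l) : D.Good a i ↔ l + 1 < p := by
  have hp : p ≠ 0 := (Fact.out : p.Prime).ne_zero
  have h := hlev (p - 1)
  have e : ((a + i + ((p - 1 : ℕ) : ℤ) * D.n : ℤ) : k) = ((a - D.n + i : ℤ) : k) := by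
    rw [Nat.cast_sub (Nat.one_le_iff_ne_zero.2 hp)]
    push_cast
    rw [CharP.cast_eq_zero k p]
    ring
  rw [e, CharP.intCast_eq_zero_iff k p] at h
  rw [Dat.Good, h]
  constructor
  · intro hne
    by_contra hlt
    exact hne (by rw [show p - 1 = l by omega])
  · intro hlt
    exact cast_ne (by omega) hl (by omega)

theorem Dat.exists_class (i : ℕ) (hi : D.Good a i) :
    ∃ z ∈ D.Z a, coeff i z = 1 ∧ ∀ j < i, coeff j z = 0 := by
  obtain ⟨l, hl, hlev⟩ := D.exists_level (k := k) (a + i)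
  obtain ⟨z, h1, h2, h3⟩ := D.exists_elt a i l hl hlev
  refine ⟨z, ?_, h1, h2⟩
  have := (D.good_iff a i l hl hlev).1 hi
  rw [Dat.Z, LinearMap.mem_ker, show p - 1 = (p - 1 - (l + 1)) + (l + 1) by omega, pow_add,
    Module.End.mul_apply, h3, map_zero]

theorem Dat.coeff_eq_zero_of_not_good {z : k⟦X⟧} (hz : z ∈ D.Z a) (i : ℕ) (hi : ¬ D.Good a i)
    (hlow : ∀ j < i, coeff j z = 0) : coeff i z = 0 := by
  obtain ⟨l, hl, hlev⟩ := D.exists_level (k := k) (a + i)
  have hl' : l + 1 = p := by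
    have : ¬ (l + 1 < p) := fun h => hi ((D.good_iff a i l hl hlev).2 h)
    omega
  obtain ⟨-, h2⟩ := D.W_iter_lead a z i hlow (p - 1)
  rw [Dat.Z, LinearMap.mem_ker] at hz
  rw [hz, map_zero, eq_comm, mul_eq_zero] at h2
  refine h2.resolve_left (Finset.prod_ne_zero_iff.2 fun q hq => mul_ne_zero ?_ (neg_ne_zero.2 (inv_ne_zero D.hnk)))
  rw [Finset.mem_range] at hq
  rw [Ne, hlev]
  exact cast_ne (by omega) hl (by omega)

/-- Exactness up to the invariant `C`, then exactness. -/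
theorem Dat.exists_preimage {z : k⟦X⟧} (hz : z ∈ D.Z a) (hlow : ∀ j < D.n, coeff j z = 0) :
    ∃ h, D.W a h = z := by
  classical
  have hp : p ≠ 0 := (Fact.out : p.Prime).ne_zero
  set θ : k⟦X⟧ := X ^ D.n
  set Cv := ((D.W 0) ^ (p - 1)) θ with hCv
  set e := D.n + (p - 1) * D.n with he
  obtain ⟨hC1, hC2⟩ := D.W_iter_lead 0 θ D.n (fun j hj => by rw [coeff_X_pow, if_neg hj.ne]) (p - 1)
  rw [coeff_X_pow_self, mul_one] at hC2
  have hC3 : coeff e Cv ≠ 0 := by
    rw [hCv, hC2]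
    refine Finset.prod_ne_zero_iff.2 fun q hq => mul_ne_zero ?_ (neg_ne_zero.2 (inv_ne_zero D.hnk))
    rw [Finset.mem_range] at hq
    rw [show (0 : ℤ) + D.n + q * D.n = ((q + 1 : ℕ) : ℤ) * D.n by push_cast; ring, Int.cast_mul, Int.cast_natCast,
      Int.cast_natCast]
    refine mul_ne_zero (fun h => ?_) D.hnk
    have := Nat.le_of_dvd (Nat.succ_pos q) ((CharP.cast_eq_zero_iff k p _).1 h)
    omega
  have hCinv : D.S 0 Cv = Cv := by
    have : D.W 0 Cv = 0 := by
      rw [hCv, ← Module.End.mul_apply, ← pow_succ', show p - 1 + 1 = p by omega, D.W_pow_p, LinearMap.zero_apply]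
    rwa [D.W_apply, sub_eq_zero] at this
  -- the partial sums
  let T : ℕ → k⟦X⟧ := fun q => ∑ j ∈ Finset.range q, ((D.S a) ^ j) z
  let P : ℕ → k⟦X⟧ := fun q => ((D.S 0) ^ q) θ
  let h' : k⟦X⟧ := -∑ q ∈ Finset.range p, P q * T q
  have hTp : T p = 0 := by
    rw [Dat.Z, LinearMap.mem_ker, D.W_pow_pred, LinearMap.sum_apply] at hz
    exact hz
  have hP : ∀ q, D.S 0 (P q) = P (q + 1) := fun q => by
    show D.S 0 (((D.S 0) ^ q) θ) = ((D.S 0) ^ (q + 1)) θ
    rw [pow_succ', Module.End.mul_apply]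
  have hT : ∀ q, D.S a (T q) = T (q + 1) - z := fun q => by
    show D.S a (∑ j ∈ Finset.range q, ((D.S a) ^ j) z) = (∑ j ∈ Finset.range (q + 1), ((D.S a) ^ j) z) - z
    rw [map_sum, Finset.sum_range_succ' (fun j => ((D.S a) ^ j) z), pow_zero, Module.End.one_apply, add_sub_cancel_right]
    exact Finset.sum_congr rfl fun j _ => by rw [pow_succ', Module.End.mul_apply]
  have hPp : P p = P 0 := by
    show ((D.S 0) ^ p) θ = ((D.S 0) ^ 0) θ
    rw [D.S_pow_p, pow_zero]
  have hshiftsum : ∀ F : ℕ → k⟦X⟧, F p = F 0 →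
      ∑ q ∈ Finset.range p, F (q + 1) = ∑ q ∈ Finset.range p, F q := fun F hF => by
    have h1 := Finset.sum_range_succ' F p
    rw [Finset.sum_range_succ F p, hF] at h1
    exact (add_right_cancel h1).symm
  have hh' : D.W a h' = Cv * z := by
    have hS : D.S a (∑ q ∈ Finset.range p, P q * T q) = (∑ q ∈ Finset.range p, P q * T q) - Cv * z := by
      rw [map_sum]
      have : ∀ q, D.S a (P q * T q) = P (q + 1) * T (q + 1) - P (q + 1) * z := fun q => by
        conv_lhs => rw [← zero_add a]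
        rw [D.S_mul, hP, hT, mul_sub]
      rw [Finset.sum_congr rfl fun q _ => this q, Finset.sum_sub_distrib, ← Finset.sum_mul,
        hshiftsum (fun q => P q * T q) (by simp [hTp, T]), hshiftsum P hPp]
      rw [hCv, D.W_pow_pred, LinearMap.sum_apply]
    rw [D.W_apply, show D.S a h' = -D.S a (∑ q ∈ Finset.range p, P q * T q) from map_neg _ _, hS]
    ring
  have hCz : ∀ j < e + D.n, coeff j (Cv * z) = 0 := fun j hj => by
    have : X ^ (e + D.n) ∣ Cv * z := by
      rw [pow_add]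
      exact mul_dvd_mul (X_pow_dvd_iff.2 hC1) (X_pow_dvd_iff.2 hlow)
    exact X_pow_dvd_iff.1 this j hj
  have hdesc : ∀ b ≤ e, ∃ h, D.W a h = Cv * z ∧ ∀ j < b, coeff j h = 0 := by
    intro b
    induction b with
    | zero => exact fun _ => ⟨h', hh', fun j hj => absurd hj (Nat.not_lt_zero j)⟩
    | succ b ih =>
      intro hb
      obtain ⟨h, hW, hv⟩ := ih (by omega)
      by_cases h0 : coeff b h = 0
      · exact ⟨h, hW, fun j hj => (Nat.lt_succ_iff_lt_or_eq.1 hj).elim (hv j) fun e => e ▸ h0⟩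
      have hab : ((a + b : ℤ) : k) = 0 := by
        have h2 := (D.W_lead a h b hv).2
        rw [hW, hCz _ (by omega), eq_comm] at h2
        simpa [h0, D.hnk] using h2
      obtain ⟨l, hl, hlev⟩ := D.exists_level (k := k) (a + b)
      have hl0 : l = 0 := by
        by_contra hne
        have h1 := (hlev 0).1 (by simpa using hab)
        exact cast_ne (Nat.pos_of_ne_zero hp) hl (Ne.symm hne) h1
      obtain ⟨w, hw1, hw2, hw3⟩ := D.exists_elt a b l hl hlev
      rw [hl0, zero_add, pow_one] at hw3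
      refine ⟨h - coeff b h • w, by rw [map_sub, map_smul, hw3, smul_zero, sub_zero, hW], fun j hj => ?_⟩
      rw [map_sub, map_smul]
      rcases Nat.lt_succ_iff_lt_or_eq.1 hj with hj' | rfl
      · rw [hv j hj', hw2 j hj', smul_zero, sub_zero]
      · rw [hw1, smul_eq_mul, mul_one, sub_self]
  obtain ⟨h, hW, hv⟩ := hdesc e le_rfl
  obtain ⟨v, hv'⟩ : X ^ e ∣ Cv := X_pow_dvd_iff.2 hC1
  have hvu : IsUnit v := by
    rw [isUnit_iff_constantCoeff, isUnit_iff_ne_zero]
    intro h0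
    apply hC3
    have := coeff_X_pow_mul v e 0
    rw [zero_add] at this
    rw [hv', this, coeff_zero_eq_constantCoeff_apply, h0]
  obtain ⟨g, hg⟩ : X ^ e ∣ h := X_pow_dvd_iff.2 hv
  obtain ⟨vi, hvi⟩ := hvu.exists_right_inv
  have hh : h = Cv * (vi * g) := by rw [hg, hv']; linear_combination (-(X : k⟦X⟧) ^ e * g) * hvi
  refine ⟨vi * g, mul_left_cancel₀ (a := Cv) (fun h0 => hC3 (by rw [h0, map_zero])) ?_⟩
  rw [← hW, hh, D.W_apply, D.W_apply]
  have hS := D.S_mul 0 a Cv (vi * g)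
  rw [zero_add, hCinv] at hS
  rw [hS]
  ring

/-- The count of classes. -/
theorem count (p : ℕ) (hp : 0 < p) (c : ℤ) : ∀ m : ℕ,
    ((((Finset.range m).filter fun i : ℕ => (p : ℤ) ∣ c + i).card : ℕ) : ℤ) = (c + m - 1) / p - (c - 1) / p := by
  intro m
  induction m with
  | zero => simp
  | succ m ih =>
    have hstep : (c + m) / (p : ℤ) = (c + m - 1) / (p : ℤ) + if (p : ℤ) ∣ c + m then 1 else 0 := by
      have hp' : (0 : ℤ) < p := by exact_mod_cast hp
      have hd := Int.mul_ediv_add_emod (c + m - 1) p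
      have h0 := Int.emod_nonneg (c + m - 1) hp'.ne'
      have h1 := Int.emod_lt_of_pos (c + m - 1) hp'
      by_cases hr : (c + m - 1) % (p : ℤ) + 1 = p
      · have e : c + m = ((c + m - 1) / (p : ℤ) + 1) * p := by linear_combination (-1 : ℤ) * hd + hr
        have hdvd : (p : ℤ) ∣ c + m := ⟨_, e.trans (mul_comm _ _)⟩
        rw [if_pos hdvd]
        exact Int.ediv_eq_of_eq_mul_left hp'.ne' e
      · have hu := (Int.ediv_emod_unique (a := c + m) (r := (c + m - 1) % (p : ℤ) + 1) (q := (c + m - 1) / (p : ℤ)) hp').2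
          ⟨by linear_combination hd, by omega, by omega⟩
        rw [if_neg fun hdvd => ?_, hu.1, add_zero]
        have := Int.emod_eq_zero_of_dvd hdvd
        rw [hu.2] at this
        omega
    rw [Finset.range_add_one, Finset.filter_insert, show c + ((m + 1 : ℕ) : ℤ) - 1 = c + m by push_cast; ring, hstep]
    split_ifs with h
    · rw [Finset.card_insert_of_notMem (by simp), Nat.cast_add, Nat.cast_one, ih]; ring
    · rw [ih]; ring

/-- The quotient has the expected dimension. -/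
theorem Dat.finrank :
    Module.Finite k (D.Z a ⧸ (LinearMap.range (D.W a)).comap (D.Z a).subtype) ∧
    (Module.finrank k (D.Z a ⧸ (LinearMap.range (D.W a)).comap (D.Z a).subtype) : ℤ) =
      D.n - (a - 1) / (p : ℤ) + (a - 1 - D.n) / (p : ℤ) := by
  classical
  set G := (Finset.range D.n).filter fun i => D.Good a i with hG
  have hgood : ∀ i : G, D.Good a i.1 := fun i => (Finset.mem_filter.1 i.2).2
  choose z hzZ hz1 hz0 using fun i : G => D.exists_class a i.1 (hgood i)
  set I := (LinearMap.range (D.W a)).comap (D.Z a).subtype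
  let ψ : (G → k) →ₗ[k] D.Z a ⧸ I :=
    Fintype.linearCombination k (fun i : G => I.mkQ ⟨z i, hzZ i⟩)
  have hψ : ∀ c : G → k, ψ c = I.mkQ (∑ i, c i • (⟨z i, hzZ i⟩ : D.Z a)) := fun c => by
    rw [Fintype.linearCombination_apply, map_sum]
    exact Finset.sum_congr rfl fun i _ => (map_smul I.mkQ (c i) _).symm
  have hinj : Function.Injective ψ := by
    refine (injective_iff_map_eq_zero ψ).2 fun c hc => ?_
    rw [hψ, Submodule.mkQ_apply, Submodule.Quotient.mk_eq_zero] at hc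
    obtain ⟨h, hh⟩ := hc
    simp only [Submodule.subtype_apply, Submodule.coe_sum, Submodule.coe_smul] at hh
    by_contra hne
    obtain ⟨i0, hi0⟩ := Function.ne_iff.1 hne
    obtain ⟨i, hi, hmin⟩ := Finset.exists_min_image (Finset.univ.filter fun i : G => c i ≠ 0) (fun i => i.1)
      ⟨i0, by simpa using hi0⟩
    rw [Finset.mem_filter] at hi
    have hin : (i : ℕ) < D.n := Finset.mem_range.1 (Finset.mem_filter.1 i.2).1
    have h1 := congrArg (coeff (i : ℕ)) hh
    rw [(D.W_lead a h 0 (fun j hj => absurd hj (Nat.not_lt_zero j))).1 _ (by omega), map_sum,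
      Finset.sum_eq_single i] at h1
    · rw [map_smul, hz1, smul_eq_mul, mul_one] at h1
      exact hi.2 h1.symm
    · intro j _ hji
      by_cases hcj : c j = 0
      · simp [hcj]
      · have := hmin j (by simpa using hcj)
        have hlt : (i : ℕ) < j := lt_of_le_of_ne this fun e => hji (Subtype.ext e.symm)
        rw [map_smul, hz0 j _ hlt, smul_zero]
    · simp
  have hsurj : Function.Surjective ψ := by
    suffices h : ∀ b ≤ D.n, ∀ x : D.Z a, ∃ y, y - x ∈ LinearMap.range (∑ i : G, LinearMap.smulRight (LinearMap.proj i : (G → k) →ₗ[k] k) (⟨z i, hzZ i⟩ : D.Z a)) ∧ ∀ j < b, coeff j (y : k⟦X⟧) = 0 by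
      intro q
      obtain ⟨x, rfl⟩ := I.mkQ_surjective q
      obtain ⟨y, ⟨c, hc⟩, hy⟩ := h D.n le_rfl x
      obtain ⟨w, hw⟩ := D.exists_preimage a y.2 hy
      have : I.mkQ y = 0 := (Submodule.Quotient.mk_eq_zero I).2 ⟨w, hw⟩
      refine ⟨-c, ?_⟩
      rw [map_neg, hψ, show I.mkQ x = I.mkQ y - I.mkQ (y - x) by rw [map_sub]; abel, this, zero_sub, ← hc]
      simp
    intro b
    induction b with
    | zero => exact fun _ x => ⟨x, by simp, fun j hj => absurd hj (Nat.not_lt_zero j)⟩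
    | succ b ih =>
      intro hb x
      obtain ⟨y, hy1, hy2⟩ := ih (by omega) x
      by_cases hgb : D.Good a b
      · have hbG : b ∈ G := Finset.mem_filter.2 ⟨Finset.mem_range.2 (by omega), hgb⟩
        refine ⟨y - coeff b (y : k⟦X⟧) • (⟨z ⟨b, hbG⟩, hzZ _⟩ : D.Z a), ?_, fun j hj => ?_⟩
        · rw [sub_right_comm]
          refine Submodule.sub_mem _ hy1 (Submodule.smul_mem _ _ ⟨Pi.single ⟨b, hbG⟩ 1, ?_⟩)
          rw [LinearMap.sum_apply, Finset.sum_eq_single ⟨b, hbG⟩]
          · simp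
          · intro i _ hi; simp [Pi.single_eq_of_ne hi]
          · simp
        · simp only [Submodule.coe_sub, Submodule.coe_smul, map_sub, map_smul]
          rcases Nat.lt_succ_iff_lt_or_eq.1 hj with hj' | rfl
          · rw [hy2 j hj', hz0 ⟨b, hbG⟩ j hj', smul_zero, sub_zero]
          · rw [hz1 ⟨j, hbG⟩, smul_eq_mul, mul_one, sub_self]
      · refine ⟨y, hy1, fun j hj => ?_⟩
        rcases Nat.lt_succ_iff_lt_or_eq.1 hj with hj' | rfl
        · exact hy2 j hj'
        · exact D.coeff_eq_zero_of_not_good a y.2 j hgb hy2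
  let e := LinearEquiv.ofBijective ψ ⟨hinj, hsurj⟩
  refine ⟨Module.Finite.equiv e, ?_⟩
  rw [← e.finrank_eq, Module.finrank_fintype_fun_eq_card, Fintype.card_coe]
  have h1 := Finset.card_filter_add_card_filter_not (s := Finset.range D.n) (fun i : ℕ => (p : ℤ) ∣ a - D.n + i)
  have h2 := count p (Fact.out : p.Prime).pos (a - D.n) D.n
  rw [Finset.card_range] at h1
  rw [show a - (D.n : ℤ) + D.n - 1 = a - 1 by ring, show a - (D.n : ℤ) - 1 = a - 1 - D.n by ring] at h2
  have hG' : G = (Finset.range D.n).filter fun i : ℕ => ¬ (p : ℤ) ∣ a - D.n + i := by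
    ext i; simp [hG, Dat.Good]
  rw [hG']
  omega

end ASH1Lib
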