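import Groth.Agent.ASH1Lib.Cohom
import Mathlib.RepresentationTheory.Homological.GroupCohomology.FiniteCyclic
import Mathlib.RepresentationTheory.Homological.GroupCohomology.LowDegree
import Mathlib.GroupTheory.SpecificGroups.Cyclic
import Mathlib.GroupTheory.OrderOfElement

/-!
# `H¹` of an Artin-Schreier point
-/

set_option autoImplicit false
universe u

open PowerSeries CategoryTheory

namespace ASH1Lib

theorem main {k : Type u} [Field k] (p : ℕ)
    [Fact p.Prime] [CharP k p] (n : ℕ) (hn : 0 < n) (hpn : ¬ p ∣ n)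
    (u : k⟦X⟧) (hu1 : constantCoeff u = 1)
    (hun : u ^ n * (1 + X ^ n) = 1) (hu : IsUnit u) (a : ℤ)
    {G : Type u} [CommGroup G] [Fintype G] (g : G) (hG : Nat.card G = p)
    (hg : ∀ x : G, x ∈ Subgroup.zpowers g)
    (ρ : Representation k G k⟦X⟧)
    (hρ : ∀ h : k⟦X⟧, ρ g h = ((hu.unit ^ a : (k⟦X⟧)ˣ) : k⟦X⟧) * subst (X * u) h) :
    Module.Finite k (groupCohomology.H1 (Rep.of ρ)) ∧
      (Module.finrank k (groupCohomology.H1 (Rep.of ρ)) : ℤ) =
        n - (a - 1) / (p : ℤ) + (a - 1 - n) / (p : ℤ) := by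
  classical
  let D : Dat k p := ⟨n, hn, hpn, hu.unit, by rw [hu.unit_spec]; exact hu1, by rw [hu.unit_spec]; exact hun⟩
  have hS : ρ g = D.S a := LinearMap.ext fun h => by
    rw [hρ, D.S_apply, D.φ_apply]
    show _ = _ * subst (X * (hu.unit : k⟦X⟧)) h
    rw [hu.unit_spec]
  have hord : orderOf g = p := by rw [orderOf_eq_card_of_forall_mem_zpowers hg, hG]
  have hnorm : ρ.norm = (D.W a) ^ (p - 1) := by
    rw [D.W_pow_pred, ← hS]
    rw [Representation.norm, ← IsCyclic.image_range_orderOf hg, hord, Finset.sum_image]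
    · exact Finset.sum_congr rfl fun q _ => map_pow ρ g q
    · intro x hx y hy h
      exact pow_injOn_Iio_orderOf (by simpa [hord] using hx) (by simpa [hord] using hy) h
  let A := Rep.of ρ
  let π := Rep.FiniteCyclicGroup.groupCohomologyπOdd A g hg 1 odd_one
  have hπs : Function.Surjective π := by
    rw [← ModuleCat.epi_iff_surjective]
    infer_instance
  have hnormA : A.norm.hom.toLinearMap = ρ.norm := rfl
  have hsub : (Rep.applyAsHom A g - 𝟙 A).hom.toLinearMap = D.W a := by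
    rw [Dat.W, ← hS]; rfl
  let N := LinearMap.ker A.norm.hom.toLinearMap
  have hN : N = D.Z a := by show LinearMap.ker _ = _; rw [hnormA, hnorm]; rfl
  let e0 : N ≃ₗ[k] D.Z a := LinearEquiv.ofEq _ _ hN
  have hker : LinearMap.ker π.hom = ((LinearMap.range (D.W a)).comap (D.Z a).subtype).comap e0.toLinearMap := by
    ext x
    rw [LinearMap.mem_ker]
    refine (Rep.FiniteCyclicGroup.groupCohomologyπOdd_eq_zero_iff A g hg 1 odd_one x).trans ?_
    rw [hsub]
    rfl
  let e : groupCohomology.H1 A ≃ₗ[k] D.Z a ⧸ (LinearMap.range (D.W a)).comap (D.Z a).subtype :=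
    ((π.hom.quotKerEquivOfSurjective hπs).symm.trans (Submodule.quotEquivOfEq _ _ hker)).trans
      (Submodule.Quotient.equiv _ _ e0 (Submodule.map_comap_eq_of_surjective e0.surjective _))
  obtain ⟨h1, h2⟩ := D.finrank a
  haveI := h1
  exact ⟨Module.Finite.equiv e.symm, by rw [e.finrank_eq]; exact h2⟩

theorem main' {k : Type u} [Field k] (p : ℕ)
    [Fact p.Prime] [CharP k p] (n : ℕ) (hn : 0 < n) (hpn : ¬ p ∣ n)
    (u : k⟦X⟧) (hu1 : constantCoeff u = 1)
    (hun : u ^ n * (1 + X ^ n) = 1) (hu : IsUnit u) (a : ℤ)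
    {G : Type u} [Group G] [Finite G] (g : G) (hG : Nat.card G = p)
    (hg : ∀ x : G, x ∈ Subgroup.zpowers g)
    (ρ : Representation k G k⟦X⟧)
    (hρ : ∀ h : k⟦X⟧, ρ g h = ((hu.unit ^ a : (k⟦X⟧)ˣ) : k⟦X⟧) * subst (X * u) h) :
    Module.Finite k (groupCohomology.H1 (Rep.of ρ)) ∧
      (Module.finrank k (groupCohomology.H1 (Rep.of ρ)) : ℤ) =
        n - (a - 1) / (p : ℤ) + (a - 1 - n) / (p : ℤ) := by
  have hc : ∀ x y : G, x * y = y * x := fun x y => by
    obtain ⟨i, rfl⟩ := Subgroup.mem_zpowers_iff.1 (hg x)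
    obtain ⟨j, rfl⟩ := Subgroup.mem_zpowers_iff.1 (hg y)
    exact zpow_mul_comm g i j
  letI : CommGroup G := { (inferInstance : Group G) with mul_comm := hc }
  letI := Fintype.ofFinite G
  exact main p n hn hpn u hu1 hun hu a g hG hg ρ hρ

end ASH1Lib
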