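import Mathlib.RingTheory.PowerSeries.Substitution
import Mathlib.RingTheory.PowerSeries.Inverse
import Mathlib.RingTheory.PowerSeries.NoZeroDivisors
import Mathlib.Algebra.CharP.Lemmas
import Mathlib.Algebra.Polynomial.AlgebraMap
import Mathlib.Algebra.Ring.GeomSum
import Mathlib.Algebra.Field.ZMod
import Mathlib.Algebra.CharP.Algebra

/-!
# The operators `h ↦ u ^ a * h (t u)` of an Artin-Schreier point
-/

set_option autoImplicit false
universe u

open PowerSeries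

namespace ASH1Lib

variable {k : Type u} [Field k]

/-- The data of the local action: `u` is `(1 + t^n)^(-1/n)`. -/
structure Dat (k : Type u) [Field k] (p : ℕ) where
  n : ℕ
  hn : 0 < n
  hpn : ¬ p ∣ n
  U : (k⟦X⟧)ˣ
  hU1 : constantCoeff (U : k⟦X⟧) = 1
  hUn : (U : k⟦X⟧) ^ n * (1 + X ^ n) = 1

variable {p : ℕ} [Fact p.Prime] [CharP k p] (D : Dat k p)

theorem Dat.hnk : (D.n : k) ≠ 0 := fun h => D.hpn ((CharP.cast_eq_zero_iff k p _).1 h)

theorem Dat.hasSubst : HasSubst (X * (D.U : k⟦X⟧)) := HasSubst.of_constantCoeff_zero' (by simp)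

/-- Substitution of `t u`. -/
noncomputable def Dat.φ : k⟦X⟧ →ₐ[k] k⟦X⟧ := substAlgHom D.hasSubst

theorem Dat.φ_apply (h : k⟦X⟧) : D.φ h = subst (X * (D.U : k⟦X⟧)) h := by
  rw [Dat.φ, coe_substAlgHom]

theorem Dat.φ_X : D.φ X = X * (D.U : k⟦X⟧) := substAlgHom_X _

/-- The semilinear operator of weight `a`. -/
noncomputable def Dat.S (a : ℤ) : k⟦X⟧ →ₗ[k] k⟦X⟧ :=
  (LinearMap.mulLeft k ((D.U ^ a : (k⟦X⟧)ˣ) : k⟦X⟧)).comp D.φ.toLinearMap

theorem Dat.S_apply (a : ℤ) (h : k⟦X⟧) : D.S a h = ((D.U ^ a : (k⟦X⟧)ˣ) : k⟦X⟧) * D.φ h := rfl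

/-- `S a - 1`. -/
noncomputable def Dat.W (a : ℤ) : k⟦X⟧ →ₗ[k] k⟦X⟧ := D.S a - LinearMap.id

theorem Dat.W_apply (a : ℤ) (h : k⟦X⟧) : D.W a h = D.S a h - h := rfl

theorem Dat.S_mul (a b : ℤ) (x y : k⟦X⟧) : D.S (a + b) (x * y) = D.S a x * D.S b y := by
  simp only [Dat.S_apply, map_mul, zpow_add, Units.val_mul]; ring

theorem Dat.S_X_pow_mul (a : ℤ) (d : ℕ) (h : k⟦X⟧) : D.S a (X ^ d * h) = X ^ d * D.S (a + d) h := by
  simp only [Dat.S_apply, map_mul, map_pow, D.φ_X, zpow_add, zpow_natCast, Units.val_mul,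
    Units.val_pow_eq_pow_val, mul_pow]
  ring

theorem Dat.W_X_pow_mul (a : ℤ) (d : ℕ) (h : k⟦X⟧) : D.W a (X ^ d * h) = X ^ d * D.W (a + d) h := by
  rw [Dat.W_apply, Dat.W_apply, D.S_X_pow_mul, mul_sub]

/-- `x` is `1 + c t^n` up to order `n`. -/
def Cong (n : ℕ) (x : k⟦X⟧) (c : k) : Prop := X ^ (n + 1) ∣ x - (1 + C c * X ^ n)

omit [Fact p.Prime] [CharP k p] in
theorem cong_one (n : ℕ) : Cong n (1 : k⟦X⟧) 0 := by simp [Cong]

omit [Fact p.Prime] [CharP k p] in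
theorem cong_mul {n : ℕ} (hn : 0 < n) {x y : k⟦X⟧} {c d : k} (hx : Cong n x c) (hy : Cong n y d) :
    Cong n (x * y) (c + d) := by
  have h2 : (X : k⟦X⟧) ^ (n + 1) ∣ C c * X ^ n * (C d * X ^ n) := by
    rw [show C c * X ^ n * (C d * X ^ n) = (X : k⟦X⟧) ^ (n + n) * (C c * C d) by ring]
    exact Dvd.dvd.mul_right (pow_dvd_pow _ (by omega)) _
  have := ((hx.mul_right y).add (hy.mul_left (1 + C c * X ^ n))).add h2
  rwa [Cong, map_add, show x * y - (1 + (C c + C d) * X ^ n) =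
    (x - (1 + C c * X ^ n)) * y + (1 + C c * X ^ n) * (y - (1 + C d * X ^ n)) + C c * X ^ n * (C d * X ^ n) by ring]

omit [Fact p.Prime] [CharP k p] in
theorem cong_inv {n : ℕ} (hn : 0 < n) {U : (k⟦X⟧)ˣ} {c : k} (h : Cong n (U : k⟦X⟧) c) :
    Cong n (↑U⁻¹ : k⟦X⟧) (-c) := by
  set w : k⟦X⟧ := ↑U⁻¹ with hw
  have h2 : (X : k⟦X⟧) ^ (n + 1) ∣ C c * C c * (X ^ n * X ^ n) * w := by
    rw [show C c * C c * (X ^ n * X ^ n) * w = (X : k⟦X⟧) ^ (n + n) * (C c * C c * w) by ring]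
    exact Dvd.dvd.mul_right (pow_dvd_pow _ (by omega)) _
  have h1 := (h.mul_right (w * (1 - C c * X ^ n))).neg_right.add h2
  rw [Cong, map_neg]
  refine h1.trans (dvd_of_eq ?_)
  have e : (U : k⟦X⟧) * w = 1 := U.mul_inv
  linear_combination (C c * X ^ n - 1) * e

theorem Dat.cong_U : Cong D.n (D.U : k⟦X⟧) (-(D.n : k)⁻¹) := by
  set s := ∑ i ∈ Finset.range D.n, (D.U : k⟦X⟧) ^ i with hs
  have hs0 : constantCoeff s = (D.n : k) := by simp [hs, map_sum, D.hU1]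
  have hsu : IsUnit s := isUnit_iff_constantCoeff.2 (by rw [hs0]; exact isUnit_iff_ne_zero.2 D.hnk)
  obtain ⟨v, hv⟩ := hsu.exists_right_inv
  have hg : s * ((D.U : k⟦X⟧) - 1) = (D.U : k⟦X⟧) ^ D.n - 1 := geom_sum_mul _ _
  have hU := D.hUn
  have key : (D.U : k⟦X⟧) - 1 = X ^ D.n * (-(v * (D.U : k⟦X⟧) ^ D.n)) := by
    linear_combination (-((D.U : k⟦X⟧) - 1)) * hv + v * hg + v * hU
  have h0 : X ∣ -(v * (D.U : k⟦X⟧) ^ D.n) - C (-(D.n : k)⁻¹) := by
    rw [X_dvd_iff, map_sub, map_neg, map_mul, map_pow, D.hU1, one_pow, mul_one, constantCoeff_C]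
    have := congrArg constantCoeff hv
    rw [map_mul, hs0, map_one] at this
    rw [eq_inv_of_mul_eq_one_right this, sub_self]
  rw [Cong, pow_succ, show (D.U : k⟦X⟧) - (1 + C (-(D.n : k)⁻¹) * X ^ D.n) =
    X ^ D.n * (-(v * (D.U : k⟦X⟧) ^ D.n) - C (-(D.n : k)⁻¹)) by linear_combination key]
  exact mul_dvd_mul_left _ h0

theorem Dat.cong_zpow (b : ℤ) : Cong D.n ((D.U ^ b : (k⟦X⟧)ˣ) : k⟦X⟧) ((b : k) * -(D.n : k)⁻¹) := by
  induction b with
  | zero => simpa using cong_one D.n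
  | succ i ih =>
    rw [zpow_add_one, Units.val_mul, Int.cast_add, Int.cast_one, add_mul, one_mul]
    exact cong_mul D.hn ih D.cong_U
  | pred i ih =>
    rw [zpow_sub_one, Units.val_mul, Int.cast_sub, Int.cast_one, sub_mul, one_mul, sub_eq_add_neg]
    exact cong_mul D.hn ih (cong_inv D.hn D.cong_U)

theorem Dat.φ_sub_self : ∀ (m : ℕ), m ≤ D.n + 1 → ∀ g : k⟦X⟧, X ^ m ∣ D.φ g - g := by
  intro m
  induction m with
  | zero => intro _ g; simp
  | succ m ih =>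
    intro hm g
    obtain ⟨g', hg'⟩ : X ∣ g - C (constantCoeff g) := X_dvd_iff.2 (by simp)
    have hg : g = C (constantCoeff g) + X * g' := by linear_combination hg'
    have hC : ∀ c : k, D.φ (C c) = C c := fun c => D.φ.commutes c
    have h1 : X ^ m ∣ ((D.U : k⟦X⟧) - 1) * D.φ g' := by
      refine Dvd.dvd.mul_right ((pow_dvd_pow _ (show m ≤ D.n by omega)).trans ?_) _
      have := (pow_dvd_pow X D.n.le_succ).trans D.cong_U
      have h' := this.add (dvd_mul_left (X ^ D.n) (C (-(D.n : k)⁻¹)))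
      rwa [show (D.U : k⟦X⟧) - (1 + C (-(D.n : k)⁻¹) * X ^ D.n) + C (-(D.n : k)⁻¹) * X ^ D.n =
        (D.U : k⟦X⟧) - 1 by ring] at h'
    have h2 := mul_dvd_mul_left X (h1.add (ih (by omega) g'))
    rw [← pow_succ'] at h2
    refine h2.trans (dvd_of_eq ?_)
    conv_rhs => rw [hg, map_add, map_mul, hC, D.φ_X]
    ring

/-- The leading term of `W`. -/
theorem Dat.W_lead (a : ℤ) (h : k⟦X⟧) (i : ℕ) (hh : ∀ j < i, coeff j h = 0) :
    (∀ j < i + D.n, coeff j (D.W a h) = 0) ∧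
      coeff (i + D.n) (D.W a h) = ((a + i : ℤ) : k) * -(D.n : k)⁻¹ * coeff i h := by
  obtain ⟨g, rfl⟩ : X ^ i ∣ h := X_pow_dvd_iff.2 hh
  have hg0 : coeff i (X ^ i * g) = constantCoeff g := by
    have := coeff_X_pow_mul g i 0
    rwa [zero_add, coeff_zero_eq_constantCoeff_apply] at this
  rw [D.W_X_pow_mul, hg0]
  set c : k := ((a + i : ℤ) : k) * -(D.n : k)⁻¹ * constantCoeff g with hc
  have key : X ^ (D.n + 1) ∣ D.W (a + i) g - C c * X ^ D.n := by
    obtain ⟨g', hg'⟩ : X ∣ g - C (constantCoeff g) := X_dvd_iff.2 (by simp)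
    have h1 := ((D.cong_zpow (a + i)).mul_right (D.φ g)).add
      ((D.φ_sub_self _ le_rfl g).mul_left (1 + C (((a + i : ℤ) : k) * -(D.n : k)⁻¹) * X ^ D.n))
    have h2 : X ^ (D.n + 1) ∣ C (((a + i : ℤ) : k) * -(D.n : k)⁻¹) * X ^ D.n * (g - C (constantCoeff g)) := by
      rw [hg', pow_succ]
      exact ⟨C (((a + i : ℤ) : k) * -(D.n : k)⁻¹) * g', by ring⟩
    refine (h1.add h2).trans (dvd_of_eq ?_)
    rw [D.W_apply, D.S_apply, hc]
    simp only [map_mul]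
    ring
  obtain ⟨w, hw⟩ := key
  have hW : D.W (a + i) g = X ^ D.n * (C c + X * w) := by linear_combination hw
  rw [hW, ← mul_assoc, ← pow_add]
  refine ⟨fun j hj => X_pow_dvd_iff.1 (dvd_mul_right _ _) j hj, ?_⟩
  have := coeff_X_pow_mul (C c + X * w) (i + D.n) 0
  rw [zero_add] at this
  simpa using this

/-- Iterates of `W`. -/
theorem Dat.W_iter_lead (a : ℤ) (h : k⟦X⟧) (i : ℕ) (hh : ∀ j < i, coeff j h = 0) : ∀ l : ℕ,
    (∀ j < i + l * D.n, coeff j (((D.W a) ^ l) h) = 0) ∧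
      coeff (i + l * D.n) (((D.W a) ^ l) h) =
        (∏ q ∈ Finset.range l, ((a + i + q * D.n : ℤ) : k) * -(D.n : k)⁻¹) * coeff i h := by
  intro l
  induction l with
  | zero => simpa using hh
  | succ l ih =>
    obtain ⟨h1, h2⟩ := D.W_lead a (((D.W a) ^ l) h) (i + l * D.n) ih.1
    rw [pow_succ', Module.End.mul_apply, show i + (l + 1) * D.n = i + l * D.n + D.n by ring]
    refine ⟨h1, ?_⟩
    rw [h2, ih.2, Finset.prod_range_succ]
    push_cast
    ring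

omit [Fact p.Prime] in
theorem eq_one_of_pow_eq_one {x : k⟦X⟧} {n : ℕ} (hn : (n : k) ≠ 0) (h1 : constantCoeff x = 1) (hx : x ^ n = 1) :
    x = 1 := by
  have hg : (∑ i ∈ Finset.range n, x ^ i) * (x - 1) = 0 := by rw [geom_sum_mul, hx, sub_self]
  have h0 : (∑ i ∈ Finset.range n, x ^ i) ≠ 0 := fun e => hn (by
    have := congrArg constantCoeff e
    simpa [map_sum, h1] using this)
  exact sub_eq_zero.1 ((mul_eq_zero.1 hg).resolve_left h0)

theorem Dat.exists_iter (a : ℤ) : ∀ i : ℕ, ∃ V : (k⟦X⟧)ˣ, constantCoeff (V : k⟦X⟧) = 1 ∧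
    (V : k⟦X⟧) ^ D.n * (1 + (i : k⟦X⟧) * X ^ D.n) = 1 ∧
    ∀ h : k⟦X⟧, ((D.S a) ^ i) h = ((V ^ a : (k⟦X⟧)ˣ) : k⟦X⟧) * subst (X * (V : k⟦X⟧)) h := by
  intro i
  induction i with
  | zero =>
    refine ⟨1, by simp, by simp, fun h => ?_⟩
    simp only [pow_zero, Module.End.one_apply, one_zpow, Units.val_one, one_mul, mul_one]
    exact (X_subst h).symm
  | succ i ih =>
    obtain ⟨V, hV1, hVn, hV⟩ := ih
    refine ⟨D.U * Units.map D.φ.toRingHom.toMonoidHom V, ?_, ?_, fun h => ?_⟩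
    · have : X ∣ D.φ (V : k⟦X⟧) - (V : k⟦X⟧) := by simpa using D.φ_sub_self 1 (by omega) (V : k⟦X⟧)
      rw [X_dvd_iff, map_sub, sub_eq_zero] at this
      simp [D.hU1, this, hV1]
    · have h2 := congrArg D.φ hVn
      simp only [map_mul, map_pow, map_add, map_one, map_natCast, D.φ_X] at h2
      have hU := D.hUn
      simp only [Units.val_mul, Units.coe_map, AlgHom.toRingHom_eq_coe, RingHom.toMonoidHom_eq_coe,
        MonoidHom.coe_coe, RingHom.coe_coe, mul_pow]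
      push_cast
      linear_combination h2 + (D.φ (V : k⟦X⟧)) ^ D.n * hU
    · rw [pow_succ', Module.End.mul_apply, hV, D.S_apply, map_mul, D.φ_apply (subst _ h),
        subst_comp_subst_apply (HasSubst.of_constantCoeff_zero' (by simp)) D.hasSubst,
        subst_mul D.hasSubst, subst_X D.hasSubst, ← D.φ_apply, mul_zpow, ← map_zpow, Units.val_mul,
        ← mul_assoc]
      have hz : D.φ ((V ^ a : (k⟦X⟧)ˣ) : k⟦X⟧) = ((Units.map D.φ.toRingHom.toMonoidHom V ^ a : (k⟦X⟧)ˣ) : k⟦X⟧) := by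
        rw [← map_zpow]; rfl
      simp [Units.coe_map, mul_assoc, hz]

theorem Dat.S_pow_p (a : ℤ) : (D.S a) ^ p = 1 := by
  obtain ⟨V, hV1, hVn, hV⟩ := D.exists_iter a p
  haveI : CharP k⟦X⟧ p := charP_of_injective_ringHom (algebraMap k k⟦X⟧).injective p
  rw [CharP.cast_eq_zero, zero_mul, add_zero, mul_one] at hVn
  have : V = 1 := Units.ext (eq_one_of_pow_eq_one D.hnk hV1 hVn)
  refine LinearMap.ext fun h => ?_
  rw [hV, this, one_zpow, Units.val_one, one_mul, mul_one, Module.End.one_apply]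
  exact X_subst h

theorem Dat.W_pow_p (a : ℤ) : (D.W a) ^ p = 0 := by
  have h : ((Polynomial.X : Polynomial k) - 1) ^ p = Polynomial.X ^ p - 1 := by rw [sub_pow_char, one_pow]
  have := congrArg (Polynomial.aeval (D.S a)) h
  simp only [map_pow, map_sub, Polynomial.aeval_X, map_one] at this
  rw [D.S_pow_p, sub_self] at this
  exact this

theorem Dat.W_pow_pred (a : ℤ) : (D.W a) ^ (p - 1) = ∑ q ∈ Finset.range p, (D.S a) ^ q := by
  have hp : p ≠ 0 := (Fact.out : p.Prime).ne_zero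
  have h : ((Polynomial.X : Polynomial k) - 1) ^ (p - 1) = ∑ q ∈ Finset.range p, Polynomial.X ^ q := by
    refine mul_right_cancel₀ (Polynomial.X_sub_C_ne_zero 1) ?_
    rw [map_one, geom_sum_mul, ← pow_succ, Nat.sub_add_cancel (Nat.one_le_iff_ne_zero.2 hp), sub_pow_char, one_pow]
  have := congrArg (Polynomial.aeval (D.S a)) h
  simp only [map_pow, map_sub, map_sum, Polynomial.aeval_X, map_one] at this
  exact this

/-- Index of a residue class: the number of steps to an invariant exponent. -/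
theorem Dat.exists_level (c : ℤ) : ∃ l < p, ∀ q : ℕ, ((c + q * D.n : ℤ) : k) = 0 ↔ (q : ZMod p) = l := by
  haveI : NeZero p := ⟨(Fact.out : p.Prime).ne_zero⟩
  refine ⟨(-(c : ZMod p) / (D.n : ZMod p)).val, ZMod.val_lt _, fun q => ?_⟩
  have hn : (D.n : ZMod p) ≠ 0 := fun h => D.hpn ((ZMod.natCast_eq_zero_iff _ _).1 h)
  rw [CharP.intCast_eq_zero_iff k p, ← ZMod.intCast_zmod_eq_zero_iff_dvd, ZMod.natCast_val, ZMod.cast_id,
    eq_div_iff hn]
  push_cast
  constructor <;> intro h <;> linear_combination h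

end ASH1Lib
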